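import Cfsg.Agent.Lib.Comp.Fast

set_option maxRecDepth 100000
set_option Elab.async false

namespace Cfsg.Lib.Comp.XG1

universe u

def iv : ℕ → ℕ := (fun x => look (nat_lit 0xffef7cefae78df6d74cf2c70beeb6caeaa689e69648e28607de75c6da6585d655449341138f30d2c9287205183101080) 6 x)

noncomputable def R : List (List ℕ × ℕ) := (apd [([19,17,12,4,16],0),
 ([1],3),
 ([1,1,4,4],0),
 ([1,1,6,6],0),
 ([1,1,8,8],0),
 ([1,3,1,4],0),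
 ([5,7,5,8],0),
 ([1,5,2,6],0),
 ([1,7,2,8],0),
 ([3,5,4,6],0),
 ([3,7,4,8],0),
 ([9],2),
 ([9,1,10,4],0),
 ([9,3,10,4,2],0),
 ([9,5,10,8],0),
 ([9,7,10,8,6],0),
 ([11],1),
 ([11,9],1),
 ([11,1],1),
 ([11,5],1),
 ([12],2),
 ([12,1,13,4],0),
 ([12,3,13,4,2],0),
 ([12,5,13,6],0),
 ([12,7,13,8],0),
 ([12,9,13,10],0),
 ([11,12],1),
 ([14],2),
 ([14,1,3,7,15,11,1,1],0),
 ([14,11,15,11,1,1,1],0),
 ([14,3,7,15,3,7],0),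
 ([14,1,5,7],1),
 ([17,14,7,10,13,15],0),
 ([16,1,1,17,11],0),
 ([16,11,17,1,1,11],0),
 ([16,1,5,17,1,5],0),
 ([18],2),
 ([18,1,1],1),
 ([18,12,19,13],0),
 ([18,9,19,10],0)]
 [([1,2],0),
 ([3,4],0),
 ([5,6],0),
 ([7,8],0),
 ([9,10],0),
 ([12,13],0),
 ([14,15],0),
 ([16,17],0),
 ([18,19],0)])

def L : List ℕ := [1,2,3,4,5,6,7,8,9,10,11,12,13,14,15,16,17,18,19]

end Cfsg.Lib.Comp.XG1
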