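import Cfsg.Agent.Lib.Comp.XG1.T06

set_option maxRecDepth 100000
set_option Elab.async false

namespace Cfsg.Lib.Comp.XG1

universe u

theorem T0_fin : finB 8192 T0_n [1,2,3,4,5,6,7,8,9,10,11,12,13,14,15,16,17,18,19] 7371 (runH 8192 T0_n (tbk 13 4 prs13 T0_n 1024) iv T0_R [] ([1,2,3,4,5,6,7,8,9,10,11,12,13].map fun x => [x]) 0 []
  [116,128,132,152]
  T0_K5) = true := by decide +kernel

theorem T0_idx : Idx.{u} iv (T0_R ++ []) ([1,2,3,4,5,6,7,8,9,10,11,12,13].map fun x => [x]) [1,2,3,4,5,6,7,8,9,10,11,12,13,14,15,16,17,18,19] 7371 :=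
  Reach.idx T0_n_ok (reach_runH T0_n_ok (tbk_eq tr13 (by norm_num) (by norm_num) (by norm_num) T0_n_ok) T0_n_rel T0_K5_reach _ _) T0_fin (by norm_num)

end Cfsg.Lib.Comp.XG1
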