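import Cfsg.Agent.Lib.Comp.XG1.Perm
import Cfsg.Agent.Lib.Comp.PermGrp
import Cfsg.Agent.Lib.Comp.Bridge2
import Cfsg.Agent.Lib.Comp.XG1.T07
import Cfsg.Agent.Lib.Comp.XG1.T1
import Cfsg.Agent.Lib.Comp.XG1.T2
import Cfsg.Agent.Lib.Comp.XG1.T3
import Cfsg.Agent.Lib.Comp.Out
import Cfsg.Agent.Lib.Comp.G23x.Mat

set_option maxRecDepth 100000
set_option Elab.async false

namespace Cfsg.Lib.Comp.XG1

universe u

theorem T3_ord : Ord.{u} iv T3_R [1,2,3,4,5,6,7,8,9,10] 96 :=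
  (T3_idx.ord_base).of_cons (cons_of_subset (by decide +kernel))

theorem T2_ord : Ord.{u} iv T2_R [1,2,3,4,5,6,7,8,9,10,11] 192 :=
  (T2_idx.ord_step T3_ord).of_cons (cons_of_subset (by decide +kernel))

theorem T1_ord : Ord.{u} iv T1_R [1,2,3,4,5,6,7,8,9,10,11,12,13] 576 :=
  (T1_idx.ord_step T2_ord).of_cons (cons_of_subset (by decide +kernel))

theorem T0_ord : Ord.{u} iv T0_R [1,2,3,4,5,6,7,8,9,10,11,12,13,14,15,16,17,18,19] 4245696 :=
  (T0_idx.ord_step T1_ord).of_cons (cons_of_subset (by decide +kernel))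

theorem ord : Ord.{u} iv R L 4245696 := T0_ord.of_cons (cons_of_subset (by decide +kernel))

theorem card : Nat.card (cl (gp nets) L) = 4245696 := card_of_ord ord nets_iv nets_rel lb

noncomputable def lpi : Net :=
 (Net.cons 192 (nat_lit 0x16f8fec3c5b34c6981c6affb279b03d5b1e1a7be35e604f0)
 (Net.cons 96 (nat_lit 0x7bf4f775f9077ba47034305c0000000000000000000000005fd45816509f20adefd1bd04)
 (Net.cons 48 (nat_lit 0x89d9aa24661a000000000000ae8419cc17c0000000000000a5c0192841b200000000000019420f88dbcc)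
 (Net.cons 24 (nat_lit 0x30ac8a0000001fb69400000001b5a40000009c28160000003b61d40000003f8a280000005c8cea0000005da130)
 (Net.cons 12 (nat_lit 0xd5c000a28000cd8000de0000cd4000ca000053c00048a000eb60003b2000a6c0002320008a8000840000c84000628)
 (Net.cons 6 (nat_lit 0x800601801602e01801401001401201400402200003200001800600c01802002400602003203401402203c03e00a02c)
 (Net.cons 3 (nat_lit 0x102000180004000000180186104000004000086002186080004006004000006180182006006000182006084180104100)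
 (Net.cons 1 (nat_lit 0x41200201048040248200208201008208008048041201200241001241009208040048041201209048001201209240048)
 (Net.cons 1 (nat_lit 0x492492492482492092492492492492492492492492492492492492492492492492492492492492492492492492092492)
 (Net.cons 1 (nat_lit 0x208049048201209001049041048249041241001208048249008248008240041209201208048048201208048040001200)
 (Net.cons 3 (nat_lit 0x1810c41060421070c01441810010840c00c60061820011830850800c20c70c40000001840410c10820000c30451c4140)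
 (Net.cons 6 (nat_lit 0x3f03100c03d03601002c02302903402900d03402401401503c02e00c01b01202901003100401b02d00c01000c01100a)
 (Net.cons 12 (nat_lit 0xc7a0000ec000cfc0002720004ab00037100089e000eda000e5c0002f7000ee5000cda00002500046b000471000848)
 (Net.cons 24 (nat_lit 0x7acd630000006d2c0d0000000b61490000005f0b3c0000009f6a310000005fda390000007eb9f40000005ecd5c)
 (Net.cons 48 (nat_lit 0xa953d8d164c50000000000002f1c22fc7f0d000000000000d6c926d7010000000000000030131c47290c)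
 (Net.cons 96 (nat_lit 0x6b92116c73f4fcb533c0fa7a0000000000000000000000003e877fd0583e52d72132b5c8)
 (Net.cons 192 (nat_lit 0x14796107013c3a4cb395433f618e0278726a4cb2fc31010c)
 Net.nil)))))))))))))))))

theorem lpi_ok : lpi.ok 384 := ok_of_netOK (by decide +kernel)

theorem l_m1 : gp nets 1 ∈ (cl (gp G23x.nets) G23x.L).map (MulAut.conj lpi.perm).toMonoidHom :=
  mem_conj_of_eqB (k := 9) (w := [3,7,1,7,10,8,9,8,4]) G23x.nets_ok (by norm_num) lpi_ok (nets_ok 1)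
    (fun _ h => cl_eq_of_slpB G23x.nets_ok (by norm_num) G23x.slp_ok ▸ mem_cl h) (by decide +kernel)

theorem l_m2 : gp nets 2 ∈ (cl (gp G23x.nets) G23x.L).map (MulAut.conj lpi.perm).toMonoidHom :=
  mem_conj_of_eqB (k := 9) (w := [1,5,7,1,9,7,10,7,1,7]) G23x.nets_ok (by norm_num) lpi_ok (nets_ok 2)
    (fun _ h => cl_eq_of_slpB G23x.nets_ok (by norm_num) G23x.slp_ok ▸ mem_cl h) (by decide +kernel)

theorem l_m3 : gp nets 3 ∈ (cl (gp G23x.nets) G23x.L).map (MulAut.conj lpi.perm).toMonoidHom :=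
  mem_conj_of_eqB (k := 9) (w := [2,3,6,7,1,9,7,9,7,3,9,10,7,9,7,4,9,7]) G23x.nets_ok (by norm_num) lpi_ok (nets_ok 3)
    (fun _ h => cl_eq_of_slpB G23x.nets_ok (by norm_num) G23x.slp_ok ▸ mem_cl h) (by decide +kernel)

theorem l_m4 : gp nets 4 ∈ (cl (gp G23x.nets) G23x.L).map (MulAut.conj lpi.perm).toMonoidHom :=
  mem_conj_of_eqB (k := 9) (w := [5,7,2,9,7,2,9,7,9,10,8,9,8,1,9,8]) G23x.nets_ok (by norm_num) lpi_ok (nets_ok 4)
    (fun _ h => cl_eq_of_slpB G23x.nets_ok (by norm_num) G23x.slp_ok ▸ mem_cl h) (by decide +kernel)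

theorem l_m5 : gp nets 5 ∈ (cl (gp G23x.nets) G23x.L).map (MulAut.conj lpi.perm).toMonoidHom :=
  mem_conj_of_eqB (k := 9) (w := [2,7,9,7,2,9,7,9,10,8,9,8,2,10]) G23x.nets_ok (by norm_num) lpi_ok (nets_ok 5)
    (fun _ h => cl_eq_of_slpB G23x.nets_ok (by norm_num) G23x.slp_ok ▸ mem_cl h) (by decide +kernel)

theorem l_m6 : gp nets 6 ∈ (cl (gp G23x.nets) G23x.L).map (MulAut.conj lpi.perm).toMonoidHom :=
  mem_conj_of_eqB (k := 9) (w := [2,3,8,9,7,9,7,4,9,10,8,10,8,10]) G23x.nets_ok (by norm_num) lpi_ok (nets_ok 6)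
    (fun _ h => cl_eq_of_slpB G23x.nets_ok (by norm_num) G23x.slp_ok ▸ mem_cl h) (by decide +kernel)

theorem l_m7 : gp nets 7 ∈ (cl (gp G23x.nets) G23x.L).map (MulAut.conj lpi.perm).toMonoidHom :=
  mem_conj_of_eqB (k := 9) (w := [1,4,7,1,7,9,7,2,10,7,9,8,9,7,1,10]) G23x.nets_ok (by norm_num) lpi_ok (nets_ok 7)
    (fun _ h => cl_eq_of_slpB G23x.nets_ok (by norm_num) G23x.slp_ok ▸ mem_cl h) (by decide +kernel)

theorem l_m8 : gp nets 8 ∈ (cl (gp G23x.nets) G23x.L).map (MulAut.conj lpi.perm).toMonoidHom :=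
  mem_conj_of_eqB (k := 9) (w := [2,5,8,2,9,7,9,7,9,10,8,1,9,8,10,7,1]) G23x.nets_ok (by norm_num) lpi_ok (nets_ok 8)
    (fun _ h => cl_eq_of_slpB G23x.nets_ok (by norm_num) G23x.slp_ok ▸ mem_cl h) (by decide +kernel)

theorem l_m9 : gp nets 9 ∈ (cl (gp G23x.nets) G23x.L).map (MulAut.conj lpi.perm).toMonoidHom :=
  mem_conj_of_eqB (k := 9) (w := [1,3,7,1,9,8,9,10,7,9,7,4,9,10,7,9]) G23x.nets_ok (by norm_num) lpi_ok (nets_ok 9)
    (fun _ h => cl_eq_of_slpB G23x.nets_ok (by norm_num) G23x.slp_ok ▸ mem_cl h) (by decide +kernel)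

theorem l_m10 : gp nets 10 ∈ (cl (gp G23x.nets) G23x.L).map (MulAut.conj lpi.perm).toMonoidHom :=
  mem_conj_of_eqB (k := 9) (w := [8,2,9,7,9,8,3,10,7,9,7,2,10]) G23x.nets_ok (by norm_num) lpi_ok (nets_ok 10)
    (fun _ h => cl_eq_of_slpB G23x.nets_ok (by norm_num) G23x.slp_ok ▸ mem_cl h) (by decide +kernel)

theorem l_m11 : gp nets 11 ∈ (cl (gp G23x.nets) G23x.L).map (MulAut.conj lpi.perm).toMonoidHom :=
  mem_conj_of_eqB (k := 9) (w := [2,4,7,9,8,9,8,9,10,7,9,7,4,9,8]) G23x.nets_ok (by norm_num) lpi_ok (nets_ok 11)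
    (fun _ h => cl_eq_of_slpB G23x.nets_ok (by norm_num) G23x.slp_ok ▸ mem_cl h) (by decide +kernel)

theorem l_m12 : gp nets 12 ∈ (cl (gp G23x.nets) G23x.L).map (MulAut.conj lpi.perm).toMonoidHom :=
  mem_conj_of_eqB (k := 9) (w := [3,5,7,9,8,9,7,3,9,10,8,9,8,3,9,10,7,10]) G23x.nets_ok (by norm_num) lpi_ok (nets_ok 12)
    (fun _ h => cl_eq_of_slpB G23x.nets_ok (by norm_num) G23x.slp_ok ▸ mem_cl h) (by decide +kernel)

theorem l_m13 : gp nets 13 ∈ (cl (gp G23x.nets) G23x.L).map (MulAut.conj lpi.perm).toMonoidHom :=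
  mem_conj_of_eqB (k := 9) (w := [3,6,8,2,9,7,9,8,6,9,10,8,9,10,8,10,7,3]) G23x.nets_ok (by norm_num) lpi_ok (nets_ok 13)
    (fun _ h => cl_eq_of_slpB G23x.nets_ok (by norm_num) G23x.slp_ok ▸ mem_cl h) (by decide +kernel)

theorem l_m14 : gp nets 14 ∈ (cl (gp G23x.nets) G23x.L).map (MulAut.conj lpi.perm).toMonoidHom :=
  mem_conj_of_eqB (k := 9) (w := [3,8,2,9,7,9,7,2,10,7,10,8,1,9,8]) G23x.nets_ok (by norm_num) lpi_ok (nets_ok 14)
    (fun _ h => cl_eq_of_slpB G23x.nets_ok (by norm_num) G23x.slp_ok ▸ mem_cl h) (by decide +kernel)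

theorem l_m15 : gp nets 15 ∈ (cl (gp G23x.nets) G23x.L).map (MulAut.conj lpi.perm).toMonoidHom :=
  mem_conj_of_eqB (k := 9) (w := [2,3,6,7,9,7,9,8,4,10,8,9,7,9,8,5]) G23x.nets_ok (by norm_num) lpi_ok (nets_ok 15)
    (fun _ h => cl_eq_of_slpB G23x.nets_ok (by norm_num) G23x.slp_ok ▸ mem_cl h) (by decide +kernel)

theorem l_m16 : gp nets 16 ∈ (cl (gp G23x.nets) G23x.L).map (MulAut.conj lpi.perm).toMonoidHom :=
  mem_conj_of_eqB (k := 9) (w := [2,7,9,7,1,9,7,9,10,7,2,9,8,9,7,3]) G23x.nets_ok (by norm_num) lpi_ok (nets_ok 16)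
    (fun _ h => cl_eq_of_slpB G23x.nets_ok (by norm_num) G23x.slp_ok ▸ mem_cl h) (by decide +kernel)

theorem l_m17 : gp nets 17 ∈ (cl (gp G23x.nets) G23x.L).map (MulAut.conj lpi.perm).toMonoidHom :=
  mem_conj_of_eqB (k := 9) (w := [4,8,1,9,7,9,8,6,9,10,7,9,7,9,7,2]) G23x.nets_ok (by norm_num) lpi_ok (nets_ok 17)
    (fun _ h => cl_eq_of_slpB G23x.nets_ok (by norm_num) G23x.slp_ok ▸ mem_cl h) (by decide +kernel)

theorem l_m18 : gp nets 18 ∈ (cl (gp G23x.nets) G23x.L).map (MulAut.conj lpi.perm).toMonoidHom :=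
  mem_conj_of_eqB (k := 9) (w := [4,7,2,9,7,9,10,7,1,7,9,10,8]) G23x.nets_ok (by norm_num) lpi_ok (nets_ok 18)
    (fun _ h => cl_eq_of_slpB G23x.nets_ok (by norm_num) G23x.slp_ok ▸ mem_cl h) (by decide +kernel)

theorem l_m19 : gp nets 19 ∈ (cl (gp G23x.nets) G23x.L).map (MulAut.conj lpi.perm).toMonoidHom :=
  mem_conj_of_eqB (k := 9) (w := [1,3,5,7,9,8,2,9,10,8,10,7,9,10]) G23x.nets_ok (by norm_num) lpi_ok (nets_ok 19)
    (fun _ h => cl_eq_of_slpB G23x.nets_ok (by norm_num) G23x.slp_ok ▸ mem_cl h) (by decide +kernel)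

theorem perm : Nonempty (cl (gp G23x.nets) G23x.L ≃* cl (gp nets) L) := by
  let e := MulEquiv.refl (cl (gp G23x.nets) G23x.L)
  have := G23x.nets_ok.finite G23x.L
  obtain ⟨φ, h1, h2⟩ := relabel e lpi.perm (G' := cl (gp nets) L)
    (cl_le.2 (by unfold L; simp only [List.forall_mem_cons]; exact ⟨l_m1, l_m2, l_m3, l_m4, l_m5, l_m6, l_m7, l_m8, l_m9, l_m10, l_m11, l_m12, l_m13, l_m14, l_m15, l_m16, l_m17, l_m18, l_m19, by simp⟩)) (G23x.card.trans_le lb)
  exact ⟨(MonoidHom.ofInjective h1).trans (MulEquiv.subgroupCongr h2)⟩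

end Cfsg.Lib.Comp.XG1
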